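import Mathlib
import Cfsg.Agent.Lib.ConjRankThree.Basic

/-!
The set of orders of centralisers of non-identity elements, its behaviour under isomorphism, and its relation to the set
of indices of the centralisers of the non-central elements.
-/

set_option autoImplicit false

namespace CfsgLib.ConjRankFour.Counts

open Subgroup CfsgLib.ConjRankThree

variable {G H : Type*} [Group G] [Group H]

/-- The orders of the centralisers of the non-identity elements. -/
def values (G : Type*) [Group G] : Set ℕ := {n | ∃ x : G, x ≠ 1 ∧ n = cc x}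

theorem cc_map (e : G ≃* H) (x : G) : cc (e x) = cc x :=
  Nat.card_congr (e.toEquiv.subtypeEquiv fun z => by
    rw [mem_cent, mem_cent]
    exact ⟨fun h => by simp only [MulEquiv.toEquiv_eq_coe, MulEquiv.coe_toEquiv, ← map_mul, h],
      fun h => e.injective (by simpa only [MulEquiv.toEquiv_eq_coe, MulEquiv.coe_toEquiv, ← map_mul] using h)⟩).symm

theorem values_congr (e : G ≃* H) : values G = values H := by
  ext n
  constructor
  · rintro ⟨x, hx, rfl⟩
    exact ⟨e x, fun h => hx (e.injective (by rw [h, map_one])), (cc_map e x).symm⟩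
  · rintro ⟨y, hy, rfl⟩
    exact ⟨e.symm y, fun h => hy (by rw [← e.apply_symm_apply y, h, map_one]), (cc_map e.symm y).symm⟩

theorem values_finite [Finite G] : (values G).Finite :=
  (Set.finite_range fun x : G => cc x).subset fun _ ⟨x, _, h⟩ => ⟨x, h.symm⟩

/-- Five different values. -/
theorem five_le [Finite G] (s : Finset ℕ) (hs : s.card = 5) (h : ↑s ⊆ values G) : 5 ≤ (values G).ncard := by
  rw [← hs, ← Set.ncard_coe_finset]
  exact Set.ncard_le_ncard h values_finite

/-- With trivial centre the indices of the non-central centralisers are the quotients by the values. -/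
theorem index_ncard [Finite G] (hZ : center G = ⊥) :
    {m : ℕ | ∃ x : G, x ∉ center G ∧ m = (centralizer ({x} : Set G)).index}.ncard = (values G).ncard := by
  have hset : {m : ℕ | ∃ x : G, x ∉ center G ∧ m = (centralizer ({x} : Set G)).index} =
      (fun n => Nat.card G / n) '' values G := by
    ext m
    simp only [hZ, mem_bot, Set.mem_image, values, Set.mem_setOf_eq]
    constructor
    · rintro ⟨x, hx, rfl⟩
      refine ⟨_, ⟨x, hx, rfl⟩, ?_⟩
      rw [← index_mul_card (centralizer ({x} : Set G)), cc, Nat.mul_div_cancel _ Nat.card_pos]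
    · rintro ⟨_, ⟨x, hx, rfl⟩, rfl⟩
      refine ⟨x, hx, ?_⟩
      rw [← index_mul_card (centralizer ({x} : Set G)), cc, Nat.mul_div_cancel _ Nat.card_pos]
  rw [hset]
  refine Set.ncard_image_of_injOn ?_
  rintro a ⟨x, -, rfl⟩ b ⟨y, -, rfl⟩ h
  have hx := cc_dvd x
  have hy := cc_dvd y
  calc cc x = Nat.card G / (Nat.card G / cc x) := (Nat.div_div_self hx Nat.card_pos.ne').symm
    _ = Nat.card G / (Nat.card G / cc y) := by simp only [h]
    _ = cc y := Nat.div_div_self hy Nat.card_pos.ne'

end CfsgLib.ConjRankFour.Counts
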