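import Mathlib
import Cfsg.Agent.Lib.ConjRankFour.Counts.Values

/-!
`A₇` has at least five centraliser orders.
-/

set_option autoImplicit false

namespace CfsgLib.ConjRankFour.Counts

open Subgroup CfsgLib.ConjRankThree Equiv Equiv.Perm

theorem cc_alt_eq (g : alternatingGroup (Fin 7)) :
    cc g = (Finset.univ.filter fun p : Perm (Fin 7) => p * g.1 = g.1 * p ∧ Perm.sign p = 1).card := by
  classical
  rw [cc, Nat.card_eq_fintype_card, Fintype.card_subtype]
  refine Finset.card_bij (fun x _ => x.1) (fun x hx => ?_) (fun x _ y _ h => Subtype.ext h) (fun p hp => ?_)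
  · simp only [Finset.mem_filter, Finset.mem_univ, true_and, mem_cent] at hx ⊢
    exact ⟨congrArg Subtype.val hx, Equiv.Perm.mem_alternatingGroup.mp x.2⟩
  · simp only [Finset.mem_filter, Finset.mem_univ, true_and] at hp
    exact ⟨⟨p, Equiv.Perm.mem_alternatingGroup.mpr hp.2⟩, by
      simp only [Finset.mem_filter, Finset.mem_univ, true_and, mem_cent]; exact Subtype.ext hp.1, rfl⟩

theorem alt_witness (c : Perm (Fin 7)) (k : ℕ) (hc : Perm.sign c = 1) (h1 : c ≠ 1)
    (hk : (Finset.univ.filter fun p : Perm (Fin 7) => p * c = c * p ∧ Perm.sign p = 1).card = k) :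
    k ∈ values (alternatingGroup (Fin 7)) :=
  ⟨⟨c, Equiv.Perm.mem_alternatingGroup.mpr hc⟩, fun h => h1 (congrArg Subtype.val h), by rw [cc_alt_eq]; exact hk.symm⟩

theorem alt7_five : 5 ≤ (values (alternatingGroup (Fin 7))).ncard := by
  refine five_le {7, 5, 36, 24, 4} (by decide) ?_
  simp only [Finset.coe_insert, Finset.coe_singleton, Set.insert_subset_iff, Set.singleton_subset_iff]
  exact ⟨alt_witness c[0, 1, 2, 3, 4, 5, 6] 7 (by decide +kernel) (by decide +kernel) (by decide +kernel),
    alt_witness c[0, 1, 2, 3, 4] 5 (by decide +kernel) (by decide +kernel) (by decide +kernel),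
    alt_witness c[0, 1, 2] 36 (by decide +kernel) (by decide +kernel) (by decide +kernel),
    alt_witness (c[0, 1] * c[2, 3]) 24 (by decide +kernel) (by decide +kernel) (by decide +kernel),
    alt_witness (c[0, 1, 2, 3] * c[4, 5]) 4 (by decide +kernel) (by decide +kernel) (by decide +kernel)⟩

/-- At least five values for every group isomorphic to `A₇`. -/
theorem alt7 {G : Type*} [Group G] [Finite G] (e : G ≃* alternatingGroup (Fin 7)) : 5 ≤ (values G).ncard := by
  rw [values_congr e]; exact alt7_five

end CfsgLib.ConjRankFour.Counts
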