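import Mathlib
import Cfsg.Agent.Lib.ConjRankFour.Counts.Values
import Cfsg.Agent.Lib.SmallSimple.PSL34
import Cfsg.Agent.Lib.SLCard

/-!
`PSL₃(4)` has at least five centraliser orders: 64 divides one, 16 is one, and elements with the characteristic
polynomials `x³ + x + 1`, `x³ + ω²x² + ω²x + 1` and a diagonal element of order three give three more.
-/

set_option autoImplicit false
set_option linter.unusedSectionVars false

namespace CfsgLib.ConjRankFour.Counts.L34

open Subgroup CfsgLib.ConjRankThree Matrix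

variable {F : Type*} [Field F] [Fintype F] (hF : Fintype.card F = 4)

local notation "SL3" => Matrix.SpecialLinearGroup (Fin 3) F
local notation "M3" => Matrix (Fin 3) (Fin 3) F
local notation "mkP" => QuotientGroup.mk' (Subgroup.center (Matrix.SpecialLinearGroup (Fin 3) F))

include hF

theorem exists_omega : ∃ w : F, w ^ 2 = w + 1 ∧ w ≠ 0 ∧ w ≠ 1 := by
  classical
  obtain ⟨w, hw⟩ : ∃ w, w ∉ ({0, 1} : Finset F) := by
    by_contra h
    push Not at h
    have := (Finset.card_le_card (fun x (_ : x ∈ Finset.univ) => h x)).trans Finset.card_le_two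
    rw [Finset.card_univ, hF] at this
    omega
  simp only [Finset.mem_insert, Finset.mem_singleton, not_or] at hw
  haveI := CfsgLib.PSL34.char_two hF
  have h3 := CfsgLib.PSL34.cube hF hw.1
  have hz : (w - 1) * (w ^ 2 + w + 1) = 0 := by linear_combination h3
  have h2 := (mul_eq_zero.mp hz).resolve_left (sub_ne_zero.mpr hw.2)
  exact ⟨w, by linear_combination h2 - CharTwo.two_eq_zero (R := F) * (w + 1), hw.1, hw.2⟩

theorem card_center : Nat.card (center SL3) = 3 := by
  rw [CfsgLib.SLCard.card_SL_center (by norm_num), hF]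
  rfl

/-- The preimage of a centraliser in `SL₃`. -/
theorem mem_pre {g X : SL3} : X ∈ (centralizer ({mkP g} : Set (SL3 ⧸ center SL3))).comap mkP ↔
    ∃ r : F, r ^ 3 = 1 ∧ X.1 * g.1 = r • (g.1 * X.1) := by
  rw [Subgroup.mem_comap, mem_centralizer_singleton_iff, ← map_mul, ← map_mul, ← inv_mul_eq_one, ← map_inv,
    ← map_mul, CfsgLib.PSL34.mkP_eq_one hF]
  constructor
  · rintro ⟨r, hr, h⟩
    have h' : (g * X).1 = r • (X * g).1 := by
      calc (g * X).1 = ((X * g) * ((X * g)⁻¹ * (g * X))).1 := by rw [mul_inv_cancel_left]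
        _ = _ := by rw [Matrix.SpecialLinearGroup.coe_mul, h, Matrix.mul_smul, mul_one]
    refine ⟨r ^ 2, by rw [← pow_mul, pow_mul', hr, one_pow], ?_⟩
    rw [Matrix.SpecialLinearGroup.coe_mul, Matrix.SpecialLinearGroup.coe_mul] at h'
    rw [h', smul_smul, ← pow_succ, hr, one_smul]
  · rintro ⟨r, hr, h⟩
    refine ⟨r ^ 2, by rw [← pow_mul, pow_mul', hr, one_pow], ?_⟩
    have hr' : (g * X).1 = r ^ 2 • (X * g).1 := by
      rw [Matrix.SpecialLinearGroup.coe_mul, Matrix.SpecialLinearGroup.coe_mul, h, smul_smul, ← pow_succ, hr, one_smul]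
    rw [Matrix.SpecialLinearGroup.coe_mul, hr', Matrix.mul_smul, ← Matrix.SpecialLinearGroup.coe_mul, inv_mul_cancel,
      Matrix.SpecialLinearGroup.coe_one]

theorem card_pre (g : SL3) :
    Nat.card ((centralizer ({mkP g} : Set (SL3 ⧸ center SL3))).comap mkP) = 3 * cc (mkP g) := by
  rw [cc]
  have h1 := Subgroup.index_mul_card ((centralizer ({mkP g} : Set (SL3 ⧸ center SL3))).comap mkP)
  rw [Subgroup.index_comap_of_surjective _ (QuotientGroup.mk'_surjective _),
    Subgroup.card_eq_card_quotient_mul_card_subgroup (center SL3),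
    ← Subgroup.index_mul_card (centralizer ({mkP g} : Set (SL3 ⧸ center SL3))), mul_assoc] at h1
  rw [Nat.eq_of_mul_eq_mul_left (Nat.pos_of_ne_zero Subgroup.index_ne_zero_of_finite) h1, card_center hF, mul_comm]

/-- The companion matrix of `x³ + b x² + a x + 1`. -/
def comp (a b : F) : SL3 :=
  ⟨!![0, 0, 1; 1, 0, a; 0, 1, b], by rw [Matrix.det_fin_three]; simp⟩

omit [Fintype F] hF in
theorem comp_val (a b : F) : (comp a b).1 = !![0, 0, 1; 1, 0, a; 0, 1, b] := rfl

/-- A centraliser of a companion matrix has order at most 21. -/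
theorem cc_comp_le {a b : F} (ha : a ≠ 0) : cc (mkP (comp a b)) ≤ 21 := by
  classical
  set g := (comp a b).1 with hg
  set P := (centralizer ({mkP (comp a b)} : Set (SL3 ⧸ center SL3))).comap mkP
  have hg3 : g * (g * g) = 1 + a • g + b • (g * g) := by
    rw [hg, comp_val]
    ext i j
    fin_cases i <;> fin_cases j <;> simp [Matrix.mul_apply, Fin.sum_univ_three] <;> ring
  have hcomm : ∀ X ∈ P, X.1 * g = g * X.1 := by
    intro X hX
    obtain ⟨r, hr, h⟩ := (mem_pre hF).mp hX
    rw [← hg] at h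
    have h2 : X.1 * (g * g) = r ^ 2 • ((g * g) * X.1) := by
      rw [← mul_assoc, h, Matrix.smul_mul, mul_assoc, h, Matrix.mul_smul, smul_smul, ← mul_assoc, sq]
    have h3 : X.1 * (g * (g * g)) = r ^ 3 • ((g * (g * g)) * X.1) := by
      rw [← mul_assoc, h, Matrix.smul_mul, mul_assoc, h2, Matrix.mul_smul, smul_smul, ← mul_assoc, ← pow_succ']
    rw [hr, one_smul, hg3] at h3
    simp only [mul_add, add_mul, mul_one, one_mul, Matrix.mul_smul, Matrix.smul_mul, h, h2, smul_smul] at h3
    have hz : ((a * r - a) • g + (b * r ^ 2 - b) • (g * g)) * X.1 = 0 := by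
      rw [add_mul, Matrix.smul_mul, Matrix.smul_mul, sub_smul, sub_smul]
      linear_combination (norm := module) h3
    have hz' : (a * r - a) • g + (b * r ^ 2 - b) • (g * g) = 0 := by
      have := congrArg (· * (X⁻¹).1) hz
      simpa only [mul_assoc, ← Matrix.SpecialLinearGroup.coe_mul, mul_inv_cancel, Matrix.SpecialLinearGroup.coe_one,
        mul_one, zero_mul] using this
    have h10 := congrFun (congrFun hz' 1) 0
    simp [hg, comp_val, Matrix.mul_apply, Fin.sum_univ_three] at h10
    have hr1 : r = 1 := mul_left_cancel₀ ha (by linear_combination h10)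
    rw [h, hr1, one_smul]
  let φ : P → (Fin 3 → F) := fun X i => X.1.1 i 0
  have hinj : Function.Injective φ := by
    intro X Y hXY
    have e0 : ∀ i, X.1.1 i 0 = Y.1.1 i 0 := fun i => congrFun hXY i
    have step : ∀ (Z : P) i, Z.1.1 i 1 = (g * Z.1.1) i 0 ∧ Z.1.1 i 2 = (g * (g * Z.1.1)) i 0 := by
      intro Z i
      have hc := hcomm Z.1 Z.2
      constructor
      · rw [← hc]; simp [hg, comp_val, Matrix.mul_apply, Fin.sum_univ_three]
      · rw [show g * (g * Z.1.1) = Z.1.1 * g * g by rw [hc, mul_assoc, ← hc, ← mul_assoc]]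
        simp [hg, comp_val, Matrix.mul_apply, Fin.sum_univ_three]
    have e1 : ∀ i, (g * X.1.1) i 0 = (g * Y.1.1) i 0 := fun i => by
      simp only [Matrix.mul_apply, e0]
    have e2 : ∀ i, (g * (g * X.1.1)) i 0 = (g * (g * Y.1.1)) i 0 := fun i => by
      simp only [Matrix.mul_apply] at e1 ⊢
      exact Finset.sum_congr rfl fun j _ => by rw [e1 j]
    apply Subtype.ext
    apply Subtype.ext
    ext i j
    fin_cases j
    · exact e0 i
    · exact ((step X i).1.trans (e1 i)).trans (step Y i).1.symm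
    · exact ((step X i).2.trans (e2 i)).trans (step Y i).2.symm
  have hle := Nat.card_le_card_of_injective φ hinj
  rw [card_pre hF, Nat.card_fun, Nat.card_eq_fintype_card (α := F), hF, Nat.card_fin] at hle
  omega

theorem orderOf_mk {X : SL3} {p : ℕ} (hp : p.Prime) (h : X ^ p = 1) (h' : mkP X ≠ 1) : orderOf (mkP X) = p :=
  haveI := Fact.mk hp
  orderOf_eq_prime (by rw [← map_pow, h, map_one]) h'

theorem mk_comp_ne_one (a b : F) : mkP (comp a b) ≠ 1 := by
  intro h
  obtain ⟨r, -, h⟩ := (CfsgLib.PSL34.mkP_eq_one hF).mp h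
  have := congrFun (congrFun h 1) 0
  simp [comp_val] at this

theorem orderOf_comp_dvd {a b : F} {p : ℕ} (hp : p.Prime) (h : comp a b ^ p = 1) : p ∣ cc (mkP (comp a b)) := by
  have := orderOf_dvd_cc (self_mem (mkP (comp a b)))
  rwa [orderOf_mk hF hp h (mk_comp_ne_one hF a b)] at this

theorem seven : ∃ x : SL3 ⧸ center SL3, x ≠ 1 ∧ 7 ∣ cc x ∧ cc x ≤ 21 := by
  haveI := CfsgLib.PSL34.char_two hF
  have two : (2 : F) = 0 := CharTwo.two_eq_zero
  refine ⟨mkP (comp 1 0), mk_comp_ne_one hF _ _, orderOf_comp_dvd hF (by norm_num) ?_, cc_comp_le hF one_ne_zero⟩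
  apply Subtype.ext
  rw [Matrix.SpecialLinearGroup.coe_pow, Matrix.SpecialLinearGroup.coe_one, comp_val,
    show (7 : ℕ) = 2 + 2 + 2 + 1 from rfl, pow_add, pow_add, pow_add, pow_two, pow_one]
  ext i j
  fin_cases i <;> fin_cases j <;> simp [Matrix.mul_apply, Fin.sum_univ_three] <;>
    grind

theorem five : ∃ x : SL3 ⧸ center SL3, x ≠ 1 ∧ 5 ∣ cc x ∧ cc x ≤ 21 := by
  haveI := CfsgLib.PSL34.char_two hF
  have two : (2 : F) = 0 := CharTwo.two_eq_zero
  obtain ⟨w, hw, -, hw1⟩ := exists_omega hF
  have ha : w + 1 ≠ 0 := fun h => hw1 (by linear_combination h - CharTwo.two_eq_zero (R := F))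
  refine ⟨mkP (comp (w + 1) (w + 1)), mk_comp_ne_one hF _ _, orderOf_comp_dvd hF (by norm_num) ?_, cc_comp_le hF ha⟩
  apply Subtype.ext
  rw [Matrix.SpecialLinearGroup.coe_pow, Matrix.SpecialLinearGroup.coe_one, comp_val,
    show (5 : ℕ) = 2 + 2 + 1 from rfl, pow_add, pow_add, pow_two, pow_one]
  ext i j
  fin_cases i <;> fin_cases j <;> simp [Matrix.mul_apply, Fin.sum_univ_three] <;>
    grind

theorem sixteen : ∃ x : SL3 ⧸ center SL3, x ≠ 1 ∧ 16 ∣ cc x ∧ cc x ≤ 21 := by
  classical
  haveI := CfsgLib.PSL34.char_two hF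
  have two : (2 : F) = 0 := CharTwo.two_eq_zero
  refine ⟨mkP (comp 1 1), mk_comp_ne_one hF _ _, ?_, cc_comp_le hF one_ne_zero⟩
  set g := (comp (1 : F) 1).1 with hg
  set N : M3 := g + 1 with hN
  have hN3 : N * (N * N) = 0 := by
    rw [hN, hg, comp_val]
    ext i j
    fin_cases i <;> fin_cases j <;> simp [Matrix.mul_apply, Fin.sum_univ_three] <;>
      grind
  let E : F → F → M3 := fun a b => 1 + a • N + b • (N * N)
  have hdet : ∀ a b, (E a b).det = 1 := by
    intro a b
    simp only [E, hN, hg, comp_val, Matrix.det_fin_three]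
    simp [Matrix.mul_apply, Fin.sum_univ_three]
    grind
  have hmul : ∀ a b c d, E a b * E c d = E (a + c) (b + d + a * c) := by
    intro a b c d
    simp only [E, mul_add, add_mul, one_mul, mul_one, Matrix.mul_smul, Matrix.smul_mul, smul_smul,
      show N * N * N = 0 by rw [mul_assoc, hN3], hN3,
      show N * N * (N * N) = 0 by rw [mul_assoc, hN3, mul_zero]]
    module
  let mkE : F → F → SL3 := fun a b => ⟨E a b, hdet a b⟩
  let S : Subgroup SL3 :=
    { carrier := {X | ∃ a b, X.1 = E a b}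
      one_mem' := ⟨0, 0, by simp [E]⟩
      mul_mem' := by
        rintro X Y ⟨a, b, hX⟩ ⟨c, d, hY⟩
        exact ⟨a + c, b + d + a * c, by rw [Matrix.SpecialLinearGroup.coe_mul, hX, hY, hmul]⟩
      inv_mem' := by
        rintro X ⟨a, b, hX⟩
        refine ⟨a, b + a * a, ?_⟩
        have h1 : X * mkE a (b + a * a) = 1 := Subtype.ext (by
          rw [Matrix.SpecialLinearGroup.coe_mul, hX, Matrix.SpecialLinearGroup.coe_one]
          show E a b * E a (b + a * a) = 1
          rw [hmul, CharTwo.add_self_eq_zero, show b + (b + a * a) + a * a = (b + b) + (a * a + a * a) by ring,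
            CharTwo.add_self_eq_zero, CharTwo.add_self_eq_zero, zero_add]
          simp [E])
        rw [inv_eq_of_mul_eq_one_right h1] }
  have hEinj : Function.Injective fun p : F × F => (⟨E p.1 p.2, hdet _ _⟩ : SL3) := by
    rintro ⟨a, b⟩ ⟨c, d⟩ h
    have h' : E a b = E c d := congrArg Subtype.val h
    have h20 := congrFun (congrFun h' 2) 0
    have h10 := congrFun (congrFun h' 1) 0
    simp [E, hN, hg, comp_val, Matrix.mul_apply, Fin.sum_univ_three] at h20 h10
    simp only [Prod.mk.injEq]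
    constructor <;> grind
  have hS : Nat.card S = 16 := by
    have e : Nat.card S = Nat.card (F × F) :=
      (Nat.card_congr (Equiv.ofBijective (fun p : F × F => (⟨⟨E p.1 p.2, hdet _ _⟩, p.1, p.2, rfl⟩ : S))
        ⟨fun p q h => hEinj (congrArg Subtype.val h), fun X => by
          obtain ⟨a, b, hX⟩ := X.2
          exact ⟨(a, b), Subtype.ext (Subtype.ext hX.symm)⟩⟩)).symm
    rw [e, Nat.card_prod, Nat.card_eq_fintype_card, hF]
  have hle : S ≤ (centralizer ({mkP (comp 1 1)} : Set (SL3 ⧸ center SL3))).comap mkP := by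
    rintro X ⟨a, b, hX⟩
    refine (mem_pre hF).mpr ⟨1, one_pow 3, ?_⟩
    have hc : Commute N g := by rw [hN]; exact (Commute.refl g).add_left (Commute.one_left g)
    rw [one_smul, hX]
    exact (((Commute.one_left g).add_left (hc.smul_left a)).add_left ((hc.mul_left hc).smul_left b)).eq
  have := Subgroup.card_dvd_of_le hle
  rw [hS, card_pre hF] at this
  exact Nat.Coprime.dvd_of_dvd_mul_left (by norm_num) this

theorem three : ∃ x : SL3 ⧸ center SL3, x ≠ 1 ∧ 9 ∣ cc x ∧ cc x ≤ 27 := by
  classical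
  haveI := CfsgLib.PSL34.char_two hF
  have two : (2 : F) = 0 := CharTwo.two_eq_zero
  obtain ⟨w, hw, hw0, hw1⟩ := exists_omega hF
  have hw3 : w ^ 3 = 1 := CfsgLib.PSL34.cube hF hw0
  let D : SL3 := ⟨Matrix.diagonal ![1, w, w ^ 2], by
    rw [Matrix.det_diagonal, Fin.prod_univ_three]
    simp; linear_combination hw3⟩
  let P : SL3 := ⟨!![0, 0, 1; 1, 0, 0; 0, 1, 0], by rw [Matrix.det_fin_three]; simp⟩
  have hww : w ^ 2 ≠ 1 := fun h => hw0 (by rw [hw] at h; linear_combination h)
  have hww' : w ^ 2 ≠ w := fun h => one_ne_zero (α := F) (by rw [hw] at h; linear_combination h)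
  have hD1 : mkP D ≠ 1 := by
    intro h
    obtain ⟨r, -, h⟩ := (CfsgLib.PSL34.mkP_eq_one hF).mp h
    have a := congrFun (congrFun h 0) 0
    have b := congrFun (congrFun h 1) 1
    simp [D] at a b
    exact hw1 (b.trans a.symm)
  have hoD : orderOf (mkP D) = 3 := orderOf_mk hF Nat.prime_three (Subtype.ext (by
    rw [Matrix.SpecialLinearGroup.coe_pow, Matrix.SpecialLinearGroup.coe_one]
    simp only [D, Matrix.diagonal_pow]
    ext i j
    fin_cases i <;> fin_cases j <;> simp [← pow_mul, hw3, pow_mul'] <;> grind) ) hD1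
  have hoP : orderOf (mkP P) = 3 := orderOf_mk hF Nat.prime_three (Subtype.ext (by
    rw [Matrix.SpecialLinearGroup.coe_pow, Matrix.SpecialLinearGroup.coe_one, pow_succ, pow_two]
    ext i j
    fin_cases i <;> fin_cases j <;> simp [P, Matrix.mul_apply, Fin.sum_univ_three])) (fun h => by
    obtain ⟨r, -, h⟩ := (CfsgLib.PSL34.mkP_eq_one hF).mp h
    have := congrFun (congrFun h 1) 0
    simp [P] at this)
  have hcP : mkP P ∈ centralizer ({mkP D} : Set (SL3 ⧸ center SL3)) := by
    have : P ∈ (centralizer ({mkP D} : Set (SL3 ⧸ center SL3))).comap mkP := by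
      refine (mem_pre hF).mpr ⟨w ^ 2, by rw [← pow_mul, pow_mul', hw3, one_pow], ?_⟩
      ext i j
      fin_cases i <;> fin_cases j <;>
        simp [P, D, Matrix.mul_apply, Fin.sum_univ_three] <;> grind
    exact this
  refine ⟨mkP D, hD1, ?_, ?_⟩
  · haveI : Fact (Nat.Prime 3) := ⟨Nat.prime_three⟩
    set Z := Subgroup.zpowers (mkP D)
    set R := Subgroup.zpowers (mkP P)
    have hZ3 : Nat.card Z = 3 := by rw [Nat.card_zpowers, hoD]
    have hR3 : Nat.card R = 3 := by rw [Nat.card_zpowers, hoP]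
    have hint : Disjoint Z R := by
      rw [disjoint_iff]
      rcases Nat.prime_three.eq_one_or_self_of_dvd _ (hR3 ▸ Subgroup.card_dvd_of_le (inf_le_right : Z ⊓ R ≤ R))
        with h | h
      · exact Subgroup.eq_bot_of_card_eq _ h
      · exfalso
        have hRZ : R ≤ Z := by
          rw [← Subgroup.eq_of_le_of_card_ge (inf_le_right : Z ⊓ R ≤ R) (by omega)]
          exact inf_le_left
        obtain ⟨k, hk⟩ := Subgroup.mem_zpowers_iff.mp (hRZ (Subgroup.mem_zpowers _))
        obtain ⟨n, hn⟩ := (isOfFinOrder_of_finite (mkP D)).mem_powers_iff_mem_zpowers.mpr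
          (Subgroup.mem_zpowers_iff.mpr ⟨k, hk⟩)
        have hk' : mkP (D ^ n) = mkP P := by rw [map_pow]; exact hn
        rw [← inv_mul_eq_one, ← map_inv, ← map_mul, CfsgLib.PSL34.mkP_eq_one hF] at hk'
        obtain ⟨r, -, hr⟩ := hk'
        have hPD : P.1 = r • (D ^ n).1 := by
          calc P.1 = (D ^ n * ((D ^ n)⁻¹ * P)).1 := by rw [mul_inv_cancel_left]
            _ = _ := by rw [Matrix.SpecialLinearGroup.coe_mul, hr, Matrix.mul_smul, mul_one]
        rw [Matrix.SpecialLinearGroup.coe_pow] at hPD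
        have := congrFun (congrFun hPD 1) 0
        simp [P, D, Matrix.diagonal_pow] at this
    have hcomm : ∀ (a : Z) (b : R), Commute (a : SL3 ⧸ center SL3) b := by
      rintro ⟨a, ha⟩ ⟨b, hb⟩
      obtain ⟨i, rfl⟩ := Subgroup.mem_zpowers_iff.mp ha
      obtain ⟨k, rfl⟩ := Subgroup.mem_zpowers_iff.mp hb
      exact ((show Commute (mkP P) (mkP D) from mem_centralizer_singleton_iff.mp hcP).symm.zpow_zpow i k)
    let φ : Z × R →* SL3 ⧸ center SL3 := MonoidHom.noncommCoprod Z.subtype R.subtype hcomm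
    have hinj : Function.Injective φ := by
      rw [← MonoidHom.ker_eq_bot_iff, eq_bot_iff_forall]
      rintro ⟨a, b⟩ h
      have h' : (a : SL3 ⧸ center SL3) * b = 1 := h
      have hb : (b : SL3 ⧸ center SL3) ∈ Z := by
        rw [eq_inv_of_mul_eq_one_right h']; exact Z.inv_mem a.2
      have hb1 : (b : SL3 ⧸ center SL3) = 1 := Subgroup.mem_bot.mp (disjoint_iff.mp hint ▸ ⟨hb, b.2⟩)
      rw [hb1, mul_one] at h'
      exact Prod.ext (Subtype.ext h') (Subtype.ext hb1)
    have hle : φ.range ≤ centralizer ({mkP D} : Set (SL3 ⧸ center SL3)) := by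
      rintro _ ⟨⟨a, b⟩, rfl⟩
      exact mul_mem (Subgroup.zpowers_le.mpr (self_mem _) a.2) (Subgroup.zpowers_le.mpr hcP b.2)
    have := Subgroup.card_dvd_of_le hle
    rwa [← Nat.card_congr (MonoidHom.ofInjective hinj).toEquiv, Nat.card_prod, hZ3, hR3] at this
  · set d : Fin 3 → F := ![1, w, w ^ 2] with hd
    have hdne : ∀ i, d i ≠ 0 := by intro i; fin_cases i <;> simp [hd, hw0]
    have hdinj : Function.Injective d := by
      intro i j h
      fin_cases i <;> fin_cases j <;> simp [hd] at h <;>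
        first | rfl | exact absurd h hw1 | exact absurd h.symm hw1 | exact absurd h hww | exact absurd h.symm hww |
          exact absurd h hww' | exact absurd h.symm hww' | grind
    set K := (centralizer ({mkP D} : Set (SL3 ⧸ center SL3))).comap mkP
    have hK : ∀ X : K, ∃ r : Fˣ, ∀ i j, X.1.1 i j * d j = (r : F) * (d i * X.1.1 i j) := by
      intro X
      obtain ⟨r, hr, h⟩ := (mem_pre hF).mp X.2
      refine ⟨Units.mk0 r (fun h0 => by simp [h0] at hr), fun i j => ?_⟩
      have := congrFun (congrFun h i) j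
      rwa [show D.1 = Matrix.diagonal d from rfl, Matrix.mul_diagonal, Matrix.smul_apply, Matrix.diagonal_mul,
        smul_eq_mul] at this
    choose r hr using hK
    have hrow : ∀ (X : K) i, ∃ j, X.1.1 i j ≠ 0 ∧ ∀ k, k ≠ j → X.1.1 i k = 0 := by
      intro X i
      obtain ⟨j, hj⟩ : ∃ j, X.1.1 i j ≠ 0 := by
        by_contra hh
        push Not at hh
        have := Matrix.det_eq_zero_of_row_eq_zero i hh
        rw [X.1.2] at this
        exact one_ne_zero this
      refine ⟨j, hj, fun k hkj => ?_⟩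
      by_contra hk
      refine hkj (hdinj ?_)
      have e1 : d j = (r X : F) * d i := mul_left_cancel₀ hj (by linear_combination hr X i j)
      have e2 : d k = (r X : F) * d i := mul_left_cancel₀ hk (by linear_combination hr X i k)
      rw [e1, e2]
    choose col hcol hoff using hrow
    let ψ : K → Fˣ × (Fin 3 → Fˣ) := fun X => (r X, fun i => Units.mk0 (X.1.1 i (col X i)) (hcol X i))
    have hinj : Function.Injective ψ := by
      intro X Y h
      have hrXY : r X = r Y := congrArg Prod.fst h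
      have hc : ∀ i, col X i = col Y i := fun i => hdinj (by
        have e1 : d (col X i) = (r X : F) * d i := mul_left_cancel₀ (hcol X i) (by linear_combination hr X i (col X i))
        have e2 : d (col Y i) = (r Y : F) * d i := mul_left_cancel₀ (hcol Y i) (by linear_combination hr Y i (col Y i))
        rw [e1, e2, hrXY])
      apply Subtype.ext
      apply Subtype.ext
      ext i j
      by_cases hj : j = col X i
      · subst hj
        have := congrArg Units.val (congrFun (congrArg Prod.snd h) i)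
        simp only [ψ, Units.val_mk0] at this
        rw [this, hc i]
      · rw [hoff X i j hj, hoff Y i j (hc i ▸ hj)]
    have hle := Nat.card_le_card_of_injective ψ hinj
    rw [card_pre hF, Nat.card_prod, Nat.card_fun, Nat.card_units, Nat.card_eq_fintype_card (α := F), hF,
      Nat.card_fin] at hle
    omega

theorem sixtyfour : ∃ x : SL3 ⧸ center SL3, x ≠ 1 ∧ 64 ∣ cc x := by
  classical
  let U : F × F × F → SL3 := fun p => ⟨!![1, p.1, p.2.1; 0, 1, p.2.2; 0, 0, 1], by rw [Matrix.det_fin_three]; simp⟩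
  let T : SL3 := U (0, 1, 0)
  have hT : mkP T ≠ 1 := by
    intro h
    obtain ⟨r, -, h⟩ := (CfsgLib.PSL34.mkP_eq_one hF).mp h
    have := congrFun (congrFun h 0) 2
    simp [T, U] at this
  have hUmul : ∀ a b c x y z, U (a, b, c) * U (x, y, z) = U (a + x, b + y + a * z, c + z) := by
    intro a b c x y z
    apply Subtype.ext
    rw [Matrix.SpecialLinearGroup.coe_mul]
    ext i j
    fin_cases i <;> fin_cases j <;> simp [U, Matrix.mul_apply, Fin.sum_univ_three] <;> ring
  let S : Subgroup SL3 :=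
    { carrier := Set.range U
      one_mem' := ⟨(0, 0, 0), Subtype.ext (by
        rw [Matrix.SpecialLinearGroup.coe_one]; ext i j; fin_cases i <;> fin_cases j <;> simp [U])⟩
      mul_mem' := by
        rintro _ _ ⟨⟨a, b, c⟩, rfl⟩ ⟨⟨x, y, z⟩, rfl⟩
        exact ⟨_, (hUmul a b c x y z).symm⟩
      inv_mem' := by
        rintro _ ⟨⟨a, b, c⟩, rfl⟩
        refine ⟨(-a, -b + a * c, -c), (inv_eq_of_mul_eq_one_right ?_).symm⟩
        rw [hUmul]
        apply Subtype.ext
        rw [Matrix.SpecialLinearGroup.coe_one]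
        ext i j
        fin_cases i <;> fin_cases j <;> simp [U] }
  have hUinj : Function.Injective U := by
    rintro ⟨a, b, c⟩ ⟨x, y, z⟩ h
    have h' := congrArg Subtype.val h
    have h1 := congrFun (congrFun h' 0) 1
    have h2 := congrFun (congrFun h' 0) 2
    have h3 := congrFun (congrFun h' 1) 2
    simp [U] at h1 h2 h3
    simp [h1, h2, h3]
  have hS : Nat.card S = 64 := by
    rw [show Nat.card S = Nat.card (Set.range U) from rfl, Nat.card_range_of_injective hUinj, Nat.card_prod,
      Nat.card_prod, Nat.card_eq_fintype_card, hF]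
  have hle : S ≤ (centralizer ({mkP T} : Set (SL3 ⧸ center SL3))).comap mkP := by
    rintro _ ⟨⟨a, b, c⟩, rfl⟩
    rw [Subgroup.mem_comap, mem_centralizer_singleton_iff, ← map_mul, ← map_mul, hUmul, hUmul]
    simp [add_comm]
  refine ⟨mkP T, hT, ?_⟩
  have := Subgroup.card_dvd_of_le hle
  rw [hS, card_pre hF] at this
  exact Nat.Coprime.dvd_of_dvd_mul_left (by norm_num) this

/-- At least five values for every group isomorphic to `PSL₃(4)`. -/
theorem psl34 {G : Type*} [Group G] [Finite G] (e : G ≃* Matrix.ProjectiveSpecialLinearGroup (Fin 3) F) :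
    5 ≤ (values G).ncard := by
  rw [values_congr e]
  obtain ⟨x7, n7, d7, l7⟩ := seven hF
  obtain ⟨x5, n5, d5, l5⟩ := five hF
  obtain ⟨x2, n2, d2, l2⟩ := sixteen hF
  obtain ⟨x3, n3, d3, l3⟩ := three hF
  obtain ⟨xt, nt, dt⟩ := sixtyfour hF
  have := CfsgLib.ConjRankThree.cc_pos x7
  have := CfsgLib.ConjRankThree.cc_pos x5
  have := CfsgLib.ConjRankThree.cc_pos x2
  have := CfsgLib.ConjRankThree.cc_pos x3
  have := CfsgLib.ConjRankThree.cc_pos xt
  refine five_le {cc x7, cc x5, cc x2, cc x3, cc xt} ?_ ?_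
  · rw [Finset.card_insert_of_notMem, Finset.card_insert_of_notMem, Finset.card_insert_of_notMem,
      Finset.card_insert_of_notMem, Finset.card_singleton] <;>
      simp only [Finset.mem_insert, Finset.mem_singleton] <;> omega
  · simp only [Finset.coe_insert, Finset.coe_singleton, Set.insert_subset_iff, Set.singleton_subset_iff]
    exact ⟨⟨x7, n7, rfl⟩, ⟨x5, n5, rfl⟩, ⟨x2, n2, rfl⟩, ⟨x3, n3, rfl⟩, ⟨xt, nt, rfl⟩⟩

end CfsgLib.ConjRankFour.Counts.L34
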