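import Mathlib
import Cfsg.Agent.Lib.ConjRankFour.Counts.Values
import Cfsg.Agent.S2508
import Cfsg.Agent.S3192
import Cfsg.Agent.S0494
import Cfsg.Agent.Lib.SLCard

/-!
`PSL₂(q)` has four centraliser orders for odd `q ≥ 7` and three for even `q` and for `q = 5`.
-/

set_option autoImplicit false

namespace CfsgLib.ConjRankFour.Counts

open Subgroup CfsgLib.ConjRankThree Matrix

theorem center_bot {K : Type*} [Group K] [IsSimpleGroup K] (hn : ¬ IsMulCommutative K) : center K = ⊥ :=
  ((inferInstance : (center K).Normal).eq_bot_or_eq_top).resolve_right fun h => hn ⟨⟨fun a b =>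
    (Subgroup.mem_center_iff.mp (h ▸ mem_top a) b).symm⟩⟩

theorem not_comm_psl {F : Type} [Field F] [Fintype F] (hodd : Odd (Fintype.card F)) (h7 : 7 ≤ Fintype.card F) :
    ¬ IsMulCommutative (Matrix.ProjectiveSpecialLinearGroup (Fin 2) F) := by
  intro hc
  have hsub : Set.range (fun g : Matrix.ProjectiveSpecialLinearGroup (Fin 2) F =>
      (centralizer ({g} : Set (Matrix.ProjectiveSpecialLinearGroup (Fin 2) F))).index) ⊆ {1} := by
    rintro _ ⟨g, rfl⟩
    refine index_eq_one.mpr (eq_top_iff.mpr fun y _ => mem_centralizer_singleton_iff.mpr ?_)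
    exact hc.is_comm.comm y g
  obtain ⟨a, b⟩ := Cfsg.Agent.S2508.result (Nat.two_dvd_ne_zero.mpr (Nat.odd_iff.mp hodd)) h7
  obtain ⟨k, hk⟩ : ∃ k, Fintype.card F = k + 4 := ⟨_, (Nat.sub_add_cancel (le_trans (by norm_num) h7)).symm⟩
  rcases (show Fintype.card F % 4 = 1 ∨ Fintype.card F % 4 = 3 by have := Nat.odd_iff.mp hodd; omega) with m | m
  · rw [a m] at hsub
    have := hsub (Or.inr (Or.inr (Or.inr (Or.inl rfl))))
    simp only [Set.mem_singleton_iff] at this
    rw [hk, mul_eq_one] at this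
    omega
  · rw [b m] at hsub
    have := hsub (Or.inr (Or.inr (Or.inr (Or.inl rfl))))
    simp only [Set.mem_singleton_iff] at this
    rw [hk, mul_eq_one] at this
    omega

/-- Four values for odd `q ≥ 7`, in the form of S3193. -/
theorem psl_odd {G : Type*} [Group G] [Finite G] {F : Type} [Field F] [Fintype F] (hodd : Odd (Fintype.card F))
    (h7 : 7 ≤ Fintype.card F) (e : G ≃* Matrix.ProjectiveSpecialLinearGroup (Fin 2) F) :
    IsSimpleGroup G ∧ ¬ IsMulCommutative G ∧
      Set.ncard {m : ℕ | ∃ x : G, x ∉ center G ∧ m = (centralizer ({x} : Set G)).index} = 4 := by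
  set P := Matrix.ProjectiveSpecialLinearGroup (Fin 2) F
  haveI : IsSimpleGroup P :=
    Matrix.ProjectiveSpecialLinearGroup.rank_two_simple (by rw [Nat.card_eq_fintype_card]; omega)
  haveI : IsSimpleGroup G := e.isSimpleGroup
  have hnP : ¬ IsMulCommutative P := not_comm_psl hodd h7
  have hnG : ¬ IsMulCommutative G := fun hc => hnP ⟨⟨fun a b => e.symm.injective (by
    rw [map_mul, map_mul]; exact hc.is_comm.comm _ _)⟩⟩
  refine ⟨inferInstance, hnG, ?_⟩
  rw [index_ncard (center_bot hnG), values_congr e, ← index_ncard (center_bot hnP)]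
  have hset : {m : ℕ | ∃ x : P, x ∉ center P ∧ m = (centralizer ({x} : Set P)).index} =
      Set.range (fun g : P => (centralizer ({g} : Set P)).index) \ {1} := by
    ext m
    simp only [Set.mem_setOf_eq, Set.mem_diff, Set.mem_range, Set.mem_singleton_iff]
    have hone : ∀ x : P, (centralizer ({x} : Set P)).index = 1 ↔ x ∈ center P := fun x => by
      rw [index_eq_one]
      exact ⟨fun h => Subgroup.mem_center_iff.mpr fun g => mem_centralizer_singleton_iff.mp (h ▸ mem_top g),
        fun h => (eq_top_iff' _).mpr fun g => mem_centralizer_singleton_iff.mpr (Subgroup.mem_center_iff.mp h g)⟩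
    constructor
    · rintro ⟨x, hx, rfl⟩
      exact ⟨⟨x, rfl⟩, fun h => hx ((hone x).mp h)⟩
    · rintro ⟨⟨x, rfl⟩, h⟩
      exact ⟨x, fun hx => h ((hone x).mpr hx), rfl⟩
  rw [hset]
  obtain ⟨a, b⟩ := Cfsg.Agent.S2508.result (Nat.two_dvd_ne_zero.mpr (Nat.odd_iff.mp hodd)) h7
  obtain ⟨k, hk⟩ : ∃ k, Fintype.card F = 2 * k + 1 := hodd
  set q := Fintype.card F with hq
  have e1 : (q ^ 2 - 1) / 2 = 2 * (k * k) + 2 * k := by
    rw [hk, show (2 * k + 1) ^ 2 = 2 * (2 * (k * k) + 2 * k) + 1 by ring]; omega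
  have e2 : q * (q - 1) = 4 * (k * k) + 2 * k := by
    rw [hk, Nat.add_sub_cancel]; ring
  have e3 : q * (q + 1) = 4 * (k * k) + 6 * k + 2 := by rw [hk]; ring
  have hkk : 3 * k ≤ k * k := Nat.mul_le_mul_right k (by omega)
  rcases (show q % 4 = 1 ∨ q % 4 = 3 by omega) with m | m
  · rw [a m, e1, e2, e3]
    rw [show (4 * (k * k) + 6 * k + 2) / 2 = 2 * (k * k) + 3 * k + 1 by omega]
    rw [Set.insert_diff_of_mem _ (Set.mem_singleton 1), Set.diff_singleton_eq_self (by simp; omega), Set.ncard_eq_four]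
    exact ⟨_, _, _, _, by omega, by omega, by omega, by omega, by omega, by omega, rfl⟩
  · rw [b m, e1, e2, e3]
    rw [show (4 * (k * k) + 2 * k) / 2 = 2 * (k * k) + k by omega]
    rw [Set.insert_diff_of_mem _ (Set.mem_singleton 1), Set.diff_singleton_eq_self (by simp; omega), Set.ncard_eq_four]
    exact ⟨_, _, _, _, by omega, by omega, by omega, by omega, by omega, by omega, rfl⟩

/-- For even `q ≥ 4` there are three values, not four. -/
theorem psl_even {G : Type*} [Group G] [Finite G] {F : Type} [Field F] [Fintype F] (hev : Even (Fintype.card F))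
    (h4 : 4 ≤ Fintype.card F) (e : G ≃* Matrix.ProjectiveSpecialLinearGroup (Fin 2) F) :
    Set.ncard {m : ℕ | ∃ x : G, x ∉ center G ∧ m = (centralizer ({x} : Set G)).index} = 3 := by
  obtain ⟨n, hp, hn⟩ := FiniteField.card F (ringChar F)
  have hp2 : ringChar F = 2 := ((Nat.prime_dvd_prime_iff_eq Nat.prime_two hp).mp
    (Nat.prime_two.dvd_of_dvd_pow (hn ▸ hev.two_dvd))).symm
  rw [hp2] at hn
  refine ((Cfsg.Agent.S3192.result G).mpr ⟨n, F, inferInstance, inferInstance, ?_, hn, ⟨e⟩⟩).2.2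
  by_contra hlt
  have : n.val = 1 := by have := n.pos; omega
  rw [hn, this] at h4
  norm_num at h4

/-- `q = 5`: the group is `PSL₂(4)`. -/
theorem psl_five {G : Type*} [Group G] [Finite G] {F : Type} [Field F] [Fintype F] (h5 : Fintype.card F = 5)
    (e : G ≃* Matrix.ProjectiveSpecialLinearGroup (Fin 2) F) :
    Set.ncard {m : ℕ | ∃ x : G, x ∉ center G ∧ m = (centralizer ({x} : Set G)).index} = 3 := by
  haveI : Fact (Nat.Prime 2) := ⟨Nat.prime_two⟩
  letI := Fintype.ofFinite (GaloisField 2 2)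
  have hK : Fintype.card (GaloisField 2 2) = 4 := by
    rw [← Nat.card_eq_fintype_card, GaloisField.card 2 2 two_ne_zero]; rfl
  have hc : ∀ (E : Type) [Field E] [Fintype E], (Fintype.card E = 4 ∨ Fintype.card E = 5) →
      IsSimpleGroup (Matrix.ProjectiveSpecialLinearGroup (Fin 2) E) ∧
        Nat.card (Matrix.ProjectiveSpecialLinearGroup (Fin 2) E) = 60 := by
    intro E _ _ hE
    refine ⟨Matrix.ProjectiveSpecialLinearGroup.rank_two_simple (by rw [Nat.card_eq_fintype_card]; omega), ?_⟩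
    have h := SLCard.gcd_mul_card_PSL (F := E) (n := 2) (by norm_num)
    rw [SLCard.card_SL_two] at h
    rcases hE with hq | hq <;> rw [hq] at h <;> norm_num at h <;> omega
  obtain ⟨hs4, hc4⟩ := hc (GaloisField 2 2) (Or.inl hK)
  obtain ⟨hs5, hc5⟩ := hc F (Or.inr h5)
  obtain ⟨e4⟩ := Cfsg.Agent.S0494.result (G := Matrix.ProjectiveSpecialLinearGroup (Fin 2) (GaloisField 2 2)) hc4
  obtain ⟨e5⟩ := Cfsg.Agent.S0494.result (G := Matrix.ProjectiveSpecialLinearGroup (Fin 2) F) hc5
  exact psl_even (by rw [hK]; decide) hK.ge ((e.trans e5).trans e4.symm)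

end CfsgLib.ConjRankFour.Counts
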