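import Mathlib
import Cfsg.Agent.Lib.ConjRankFour.Counts.Values
import Cfsg.Agent.Lib.Suzuki.Partition
import Cfsg.Agent.Lib.Suzuki.Fixity
import Cfsg.Agent.Lib.Suzuki.Sylow
import Cfsg.Agent.Lib.Suzuki.Lie

/-!
The Suzuki groups have at least five centraliser orders.
-/

set_option autoImplicit false

namespace CfsgLib.ConjRankFour.Counts

open Subgroup CfsgLib.ConjRankThree CfsgLib.Suzuki

variable {F : Type*} [Field F] [Fintype F] {m : ℕ}

theorem sz_five (hF : Fintype.card F = 2 ^ (2 * m + 1)) (hm : 1 ≤ m) : 5 ≤ (values ↥(Cfsg.Sz F m)).ncard := by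
  classical
  obtain ⟨Ap, Am, -, hp, up, -, -, hmc, um, -, -⟩ := classify hF hm
  set q := 2 ^ (2 * m + 1) with hq
  set s := 2 ^ (m + 1) with hs
  have hs4 : 4 ≤ s := by
    calc 4 = 2 ^ 2 := rfl
      _ ≤ s := Nat.pow_le_pow_right two_pos (by omega)
  have hsq : 2 * s ≤ q := by
    calc 2 * s = 2 ^ (m + 2) := by rw [hs, pow_succ 2 (m + 1)]; ring
      _ ≤ q := Nat.pow_le_pow_right two_pos (by omega)
  have hqq : 2 * q ≤ q * q := Nat.mul_le_mul_right q (by omega)
  have hev : q % 2 = 0 := by rw [hq, pow_succ]; omega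
  have hev' : s % 2 = 0 := by rw [hs, pow_succ]; omega
  -- the cyclic tori
  have hnon : ∀ (K : Subgroup ↥(Cfsg.Sz F m)) (k : ℕ), Nat.card K = k → 1 < k → ∃ u ∈ K, u ≠ 1 := by
    intro K k hK hk
    by_contra hh
    push Not at hh
    have : K = ⊥ := (eq_bot_iff_forall K).mpr hh
    rw [this, Subgroup.card_bot] at hK
    omega
  obtain ⟨a, ha, ha1⟩ := hnon Ap _ hp (by omega)
  obtain ⟨b, hb, hb1⟩ := hnon Am _ hmc (by omega)
  have va : cc a = q + s + 1 := by rw [cc, up a ha ha1, hp]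
  have vb : cc b = q - s + 1 := by rw [cc, um b hb hb1, hmc]
  obtain ⟨d, hd, hd1⟩ := hnon (T hF) _ (card_T hF) (by omega)
  obtain ⟨t, rfl⟩ := (mem_T hF).mp hd
  have ht1 : t ≠ 1 := fun h => hd1 (by rw [h, dS_one])
  have vd : cc (dS hF t) = q - 1 := by rw [cc, centralizer_torus hF hm ht1, card_T]
  -- central and non-central elements of `U`
  set z := uS hF (0 : F) 1 with hz
  set y := uS hF (1 : F) 0 with hy
  have hz1 : z ≠ 1 := fun h => one_ne_zero (uS_inj hF (h.trans (uS_zero hF).symm)).2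
  have hy1 : y ≠ 1 := fun h => one_ne_zero (uS_inj hF (h.trans (uS_zero hF).symm)).1
  have vz : cc z = q * q := by
    rw [cc, le_antisymm (centralizer_unipotent hF hm ⟨0, 1, rfl⟩ hz1) (U_le_centralizer hF 1), card_U, sq]
  have hyle := centralizer_unipotent hF hm ⟨1, 0, rfl⟩ hy1
  have vy : cc y < q * q ∧ cc y % 2 = 0 := by
    refine ⟨?_, ?_⟩
    · rw [← sq, hq, ← card_U hF, cc]
      refine lt_of_le_of_ne (Nat.le_of_dvd Nat.card_pos (card_dvd_of_le hyle)) fun he => ?_
      refine one_ne_zero (mem_center_U hF hm (a := (1 : F)) (b := 0) fun c d => ?_)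
      have heq := Subgroup.eq_of_le_of_card_ge hyle he.ge
      exact (mem_centralizer_singleton_iff.mp (heq.symm ▸ (⟨c, d, rfl⟩ : uS hF c d ∈ U hF))).symm
    · haveI : Fact (Nat.Prime 2) := ⟨Nat.prime_two⟩
      have hUp : IsPGroup 2 ↥(U hF) := IsPGroup.of_card (n := (2 * m + 1) * 2) (by rw [card_U, ← pow_mul])
      obtain ⟨k, hk⟩ := (hUp.to_le hyle).exists_card_eq
      have : orderOf y ∣ cc y := orderOf_dvd_cc (self_mem y)
      rcases Nat.eq_zero_or_pos k with rfl | hk0
      · rw [cc, hk, pow_zero, Nat.dvd_one, orderOf_eq_one_iff] at this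
        exact absurd this hy1
      · obtain ⟨j, rfl⟩ := Nat.exists_eq_succ_of_ne_zero hk0.ne'
        rw [cc, hk, pow_succ]; omega
  have hodd : (q * q) % 2 = 0 := by rw [Nat.mul_mod, hev]
  refine five_le {q * q, cc y, q - 1, q + s + 1, q - s + 1} ?_ ?_
  · rw [Finset.card_insert_of_notMem, Finset.card_insert_of_notMem, Finset.card_insert_of_notMem,
      Finset.card_insert_of_notMem, Finset.card_singleton] <;>
      simp only [Finset.mem_insert, Finset.mem_singleton] <;> omega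
  · simp only [Finset.coe_insert, Finset.coe_singleton, Set.insert_subset_iff, Set.singleton_subset_iff]
    exact ⟨⟨z, hz1, vz.symm⟩, ⟨y, hy1, rfl⟩, ⟨_, hd1, vd.symm⟩, ⟨a, ha1, va.symm⟩, ⟨b, hb1, vb.symm⟩⟩

/-- At least five values for every group isomorphic to a Suzuki group. -/
theorem suzuki {G : Type*} [Group G] [Finite G] (h : Cfsg.Lie.IsoSuzuki G) : 5 ≤ (values G).ncard := by
  obtain ⟨F, iF, iFt, m, hm, hF, ⟨e⟩⟩ := h
  rw [values_congr (e.trans (lieEquiv hF hm).symm)]
  exact sz_five hF hm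

end CfsgLib.ConjRankFour.Counts
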